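import Cfsg.Agent.H679.VanQ.Two
import Cfsg.Agent.H593.IMMon
import Cfsg.Agent.H713.Spor.M
import Cfsg.Agent.H419.Row
import Cfsg.Agent.H845.HNNineteen
import Cfsg.Agent.BpSpor.Inn.M
import Cfsg.Agent.H800.ME.Final
import Cfsg.Agent.MFiveHN.Closed

/-!
# S4987, the Monster, `p = 5` (helper679)

`x` of order 5 with `C(x)/⟨x⟩ ≅ HN`, `w ∈ C(x)` of order 19: `x * w` and `x * w ^ k` have order 95, the Monster has a
character of 19-defect zero, and `w` is not conjugate to some `w ^ k` in `HN`.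
-/

set_option autoImplicit false
set_option maxRecDepth 100000

namespace Cfsg.Agent.H679.VanQ.M5

open Cfsg Subgroup Cfsg.Agent.H387.VO Cfsg.Agent.H665.NoPQ Cfsg.Agent.H33
open Cfsg.Agent.LThreeMB (fr XX Zx)
open Cfsg.Agent.H800.ME.Final Cfsg.Agent.H800.ME.CoFacts
open Cfsg.Agent.BpSpor.MBigModel (MG zz card_M chart orderOf_zz)

universe u

instance fact_19 : Fact (Nat.Prime 19) := ⟨by norm_num⟩
instance fact_17 : Fact (Nat.Prime 17) := ⟨by norm_num⟩

theorem finite_m {K : Type*} [Group K] (h : Spor.IsoM K) : Finite K :=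
  Nat.finite_of_card_ne_zero (by rw [H713.Spor.M.card_eq h]; norm_num)

/-- Characters of defect zero for the primes dividing the order of the Monster exactly once. -/
theorem hasDZ {K : Type u} [Group K] (h : Spor.IsoM K) {q : ℕ} [hq : Fact q.Prime] (h11 : q ≠ 11) (h23 : q ≠ 23)
    (h1 : (Nat.card K).factorization q = 1) : HasDZ q K := by
  have := finite_m h
  have hd : q ∣ Nat.card K := Nat.dvd_of_factorization_pos (by rw [h1]; norm_num)
  obtain ⟨χ, hχ⟩ := Cfsg.Agent.H593.IMMon.im_m_of h hd h11 h23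
  exact Cfsg.Agent.H419.Row.dz_of_dvd (n := 1) χ (by rwa [pow_one]) h1 hq.out

theorem hasDZ_19 {K : Type u} [Group K] (h : Spor.IsoM K) : HasDZ 19 K := by
  refine hasDZ h (by norm_num) (by norm_num) ?_
  rw [H713.Spor.M.card_eq h]
  exact H713.factorization_eq_one (by norm_num) (by norm_num)

theorem hasDZ_17 {K : Type u} [Group K] (h : Spor.IsoM K) : HasDZ 17 K := by
  refine hasDZ h (by norm_num) (by norm_num) ?_
  rw [H713.Spor.M.card_eq h]
  exact H713.factorization_eq_one (by norm_num) (by norm_num)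

/-- The automorphisms of the model are inner. -/
theorem inner_model : ∀ α : MulAut MG, ∃ g : MG, α = MulAut.conj g := by
  have hfin : Finite MG := BpSpor.MBigModel.finite
  have hco := Cfsg.Agent.KFacts.MonsterE.simple_Co1
  obtain ⟨π, D⟩ := Cfsg.Agent.KFacts.MonsterE.data_model MonsterX.Instance.mGroup MonsterX.Instance.mRep
    MonsterX.Instance.mLat MonsterX.InstanceFinal.mOrbit MonsterX.Instance.mTrans
  exact D.inner

/-- An element `x` of order 5 with `C(x)/⟨x⟩ ≅ HN`. -/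
theorem exists_x5 : ∃ x : MG, orderOf x = 5 ∧ Spor.IsoHN (XX x) := by
  obtain ⟨x, hx, hpx⟩ := exists_x
  obtain ⟨c, -, hcf, hc5⟩ := exists_f chart hx hpx
  have : Finite MG := BpSpor.MBigModel.finite
  have : IsSimpleGroup MG := BpSpor.MBigModel.simple
  exact ⟨c, by rw [Subgroup.orderOf_coe, hc5],
    MFiveHN.Closed.hnEight chart c hc5 (by rw [hcf]; exact fr_f1)⟩

theorem mem_of_XX {G : Type*} [Group G] {x : G} {c : ↥(centralizer ({x} : Set G))}
    (h : (QuotientGroup.mk' (Zx x) c) = 1) : (c : G) ∈ zpowers x := by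
  have h1 : c ∈ Zx x := (QuotientGroup.eq_one_iff c).1 h
  obtain ⟨i, hi⟩ := mem_zpowers_iff.1 h1
  exact mem_zpowers_iff.2 ⟨i, by rw [← hi]; rfl⟩

theorem isoM_model : Spor.IsoM MG := by
  obtain ⟨f⟩ := Cfsg.Agent.H593.IMMon.equivMG
  exact ⟨f.symm⟩

theorem two_model : TwoVan 5 MG := by
  have hfin : Finite MG := BpSpor.MBigModel.finite
  obtain ⟨x, hx, ⟨e⟩⟩ := exists_x5
  obtain ⟨a, ha, hc⟩ := Cfsg.Agent.H845.HNNineteen.hn_nineteen
  have hcard : Nat.card Cfsg.Spor.HN = 273030912000000 := Cfsg.Agent.S1701.result.2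
  have : Finite Cfsg.Spor.HN := Nat.finite_of_card_ne_zero (by rw [hcard]; norm_num)
  refine two_of_sylow (p := 5) (q := 19) (by norm_num) (by norm_num)
    (hasDZ_19 isoM_model) inner_model hx
    ((e : XX x →* Cfsg.Spor.HN).comp (QuotientGroup.mk' (Zx x))) ?_ ?_ ?_ ha hc ?_
  · exact e.surjective.comp (QuotientGroup.mk'_surjective _)
  · intro c h
    exact mem_of_XX ((MulEquiv.map_eq_one_iff e).1 h)
  · rw [hcard]
    exact H713.factorization_eq_one (by norm_num) (by norm_num)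
  · rw [hcard]; norm_num

/-- **The row of the Monster, `p = 5`.** -/
theorem two_m_p {K : Type u} [Group K] (h : Spor.IsoM K) : TwoVan 5 K := by
  obtain ⟨e⟩ := h
  obtain ⟨f⟩ := Cfsg.Agent.H593.IMMon.equivMG
  exact two_model.mulEquiv (e.trans f).symm

end Cfsg.Agent.H679.VanQ.M5
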