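import Cfsg.Agent.H387.VO.Main
import Cfsg.Agent.H710.OutVan

/-!
# Two vanishing classes from one character of `q`-defect zero (helper679, S4987)

`x` of order `p`, `pi : C(x) → A` onto with kernel in `⟨x⟩`, `a ∈ A` of order `q`, not conjugate to `a ^ k`, and a
character of `q`-defect zero: `x * w` and `x * w ^ k` with `pi w = a`.
-/

set_option autoImplicit false

namespace Cfsg.Agent.H679.VanQ

open Cfsg Subgroup Cfsg.Agent.H387.VO Cfsg.Agent.H665.NoPQ

/-- The general statement. -/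
theorem two_of_dz {S : Type*} [Group S] [Finite S] {p q : ℕ} (hp : p.Prime) [hq : Fact q.Prime] (hpq : p ≠ q)
    (hdz : HasDZ q S) (hinn : ∀ α : MulAut S, ∃ g : S, α = MulAut.conj g) {x : S} (hx : orderOf x = p)
    {A : Type*} [Group A] (pi : ↥(centralizer ({x} : Set S)) →* A) (hpi : Function.Surjective pi)
    (hker : ∀ c : ↥(centralizer ({x} : Set S)), pi c = 1 → (c : S) ∈ zpowers x) {a : A} (ha : orderOf a = q)
    {k : ℕ} (hk : k.Coprime q) (hak : ¬ IsConj a (a ^ k)) : TwoVan p S := by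
  have hcop : Nat.Coprime p q := (Nat.coprime_primes hp hq.out).2 hpq
  obtain ⟨c, hc⟩ := hpi a
  have haq : a ^ q = 1 := by rw [← ha, pow_orderOf_eq_one]
  have hcq : ((c : S) ^ q) ^ p = 1 := by
    have h1 : ((c ^ q : ↥(centralizer ({x} : Set S))) : S) ∈ zpowers x := hker _ (by rw [map_pow, hc, haq])
    obtain ⟨i, hi⟩ := mem_zpowers_iff.1 h1
    rw [SubmonoidClass.coe_pow] at hi
    rw [← hi, ← zpow_natCast, ← zpow_mul, mul_comm, zpow_mul, zpow_natCast, ← hx, pow_orderOf_eq_one, one_zpow]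
  -- `s ≡ 1 mod q`, `s ≡ 0 mod p`
  obtain ⟨s, hs1, hs2⟩ := Nat.chineseRemainder hcop.symm 1 0
  obtain ⟨m, hm1, hm2⟩ := Nat.chineseRemainder hcop 1 0
  obtain ⟨w, hw⟩ : ∃ w : ↥(centralizer ({x} : Set S)), w = c ^ s := ⟨_, rfl⟩
  have hpw : pi w = a := by
    rw [hw, map_pow, hc]
    conv_rhs => rw [← pow_one a]
    rw [pow_eq_pow_iff_modEq, ha]
    exact hs1
  have hwq : w ^ q = 1 := by
    obtain ⟨t, ht⟩ := (Nat.modEq_zero_iff_dvd).1 hs2
    apply Subtype.ext
    rw [hw, SubmonoidClass.coe_pow, SubmonoidClass.coe_pow, ht, ← pow_mul,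
      show p * t * q = (q * p) * t by ring, pow_mul, pow_mul, hcq, one_pow]
    rfl
  have ho : orderOf w = q := by
    refine orderOf_eq_prime hwq ?_
    intro h1
    rw [h1, map_one] at hpw
    rw [← hpw, orderOf_one] at ha
    exact hq.out.one_lt.ne ha
  have hoS : orderOf (w : S) = q := by rw [Subgroup.orderOf_coe, ho]
  have hcomm : Commute x (w : S) := (mem_centralizer_singleton_iff.1 w.2).symm
  have hok : orderOf ((w : S) ^ k) = q := by
    rw [Nat.Coprime.orderOf_pow (by rw [hoS]; exact hk.symm), hoS]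
  have hck : Commute x ((w : S) ^ k) := hcomm.pow_right k
  have o1 : orderOf (x * w) = p * q := by
    rw [hcomm.orderOf_mul_eq_mul_orderOf_of_coprime (by rw [hx, hoS]; exact hcop), hx, hoS]
  have o2 : orderOf (x * (w : S) ^ k) = p * q := by
    rw [hck.orderOf_mul_eq_mul_orderOf_of_coprime (by rw [hx, hok]; exact hcop), hx, hok]
  refine ⟨x * w, x * (w : S) ^ k, ?_, ?_, ?_, ?_, ?_⟩
  · rw [o1]; exact dvd_mul_right _ _
  · rw [o2]; exact dvd_mul_right _ _
  · exact H713.HasDZ.vz hdz (by rw [o1]; exact dvd_mul_left _ _)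
  · exact H713.HasDZ.vz hdz (by rw [o2]; exact dvd_mul_left _ _)
  · intro α hα
    obtain ⟨h, rfl⟩ := hinn α
    rw [MulAut.conj_apply] at hα
    have hxm : x ^ m = x := by
      conv_rhs => rw [← pow_one x]
      rw [pow_eq_pow_iff_modEq, hx]
      exact hm1
    have hwm : (w : S) ^ m = 1 := orderOf_dvd_iff_pow_eq_one.1 (by rw [hoS]; exact (Nat.modEq_zero_iff_dvd).1 hm2)
    have hwkm : ((w : S) ^ k) ^ m = 1 := by rw [← pow_mul, mul_comm, pow_mul, hwm, one_pow]
    have h1 : h * x * h⁻¹ = x := by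
      have h2 := congrArg (fun g => g ^ m) hα
      simp only [conj_pow, hcomm.mul_pow, hck.mul_pow, hxm, hwm, hwkm, mul_one] at h2
      exact h2
    have hh : h ∈ centralizer ({x} : Set S) := mem_centralizer_singleton_iff.2 (mul_inv_eq_iff_eq_mul.1 h1)
    have h3 : h * (w : S) * h⁻¹ = (w : S) ^ k := by
      have h4 : h * (x * w) * h⁻¹ = (h * x * h⁻¹) * (h * w * h⁻¹) := by group
      rw [h4, h1] at hα
      exact mul_left_cancel hα
    refine hak (isConj_iff.2 ⟨pi ⟨h, hh⟩, ?_⟩)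
    rw [← hpw, ← map_inv, ← map_mul, ← map_mul, ← map_pow]
    congr 1
    exact Subtype.ext h3

/-- A self-centralizing Sylow subgroup of order `q` whose normalizer is not transitive on the elements of order `q`. -/
theorem exists_not_conj {A : Type*} [Group A] [Finite A] {q : ℕ} [hq : Fact q.Prime]
    (hA : (Nat.card A).factorization q = 1) {a : A} (ha : orderOf a = q)
    (hc : Nat.card (centralizer ({a} : Set A)) = q) (hm : ¬ q ∣ Nat.card A / q + 1) :
    ∃ k : ℕ, k.Coprime q ∧ ¬ IsConj a (a ^ k) := by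
  by_contra hcon
  push Not at hcon
  refine hm (Cfsg.Agent.H710.OutVan.dvd_of_conj hA ha hc fun m hm0 => hcon _ ?_)
  have h5 : m.val ≠ 0 := fun h => hm0 ((ZMod.val_eq_zero m).1 h)
  exact (Nat.coprime_of_lt_prime h5 m.val_lt hq.out).symm

/-- **The form for rows**: `C(x) → A` onto with kernel in `⟨x⟩`, `A` with a self-centralizing Sylow subgroup of order `q`. -/
theorem two_of_sylow {S : Type*} [Group S] [Finite S] {p q : ℕ} (hp : p.Prime) [hq : Fact q.Prime] (hpq : p ≠ q)
    (hdz : HasDZ q S) (hinn : ∀ α : MulAut S, ∃ g : S, α = MulAut.conj g) {x : S} (hx : orderOf x = p)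
    {A : Type*} [Group A] [Finite A] (pi : ↥(centralizer ({x} : Set S)) →* A) (hpi : Function.Surjective pi)
    (hker : ∀ c : ↥(centralizer ({x} : Set S)), pi c = 1 → (c : S) ∈ zpowers x)
    (hA : (Nat.card A).factorization q = 1) {a : A} (ha : orderOf a = q)
    (hc : Nat.card (centralizer ({a} : Set A)) = q) (hm : ¬ q ∣ Nat.card A / q + 1) : TwoVan p S := by
  obtain ⟨k, hk, hak⟩ := exists_not_conj hA ha hc hm
  exact two_of_dz hp hpq hdz hinn hx pi hpi hker ha hk hak

end Cfsg.Agent.H679.VanQ
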